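import Groth.Agent.Lib.FPHom.Global
import Mathlib.CategoryTheory.Sites.Spaces
import Mathlib.Topology.Sheaves.Sheaf

/-!
# Quasi-compact coverings of the terminal sheaf
-/

set_option autoImplicit false
set_option linter.unusedSectionVars false
set_option linter.style.haveILetI false

universe u

open CategoryTheory CategoryTheory.Limits Opposite TopologicalSpace

namespace Groth.Agent.Lib.FPHom.QcCover

open Groth.CanonSheaf (pt hat pt_hat hat_comp)

section Site

variable {C : Type u} [SmallCategory C] {J : GrothendieckTopology C}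

/-- A sheaf covered by finitely many quasi-compact ones is quasi-compact. -/
theorem isQcObject_of_family {K : Sheaf J (Type u)} {A : Type*} [Finite A] {L : A → Sheaf J (Type u)}
    (g : ∀ a, L a ⟶ K)
    (hg : ∀ (U : C) (s : K.obj.obj (op U)), ∃ S ∈ J U, ∀ (V : C) (v : V ⟶ U), S v →
      ∃ (a : A) (x : (L a).obj.obj (op V)), (g a).hom.app (op V) x = K.obj.map v.op s)
    (hL : ∀ a, CohCx.IsQcObject (L a)) : CohCx.IsQcObject K := by
  classical
  have := Fintype.ofFinite A
  intro I M f hf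
  have hP : ∀ a, CohCx.JointlySurjective (fun i => pullback.fst (g a) (f i)) := fun a U s => by
    obtain ⟨S, hS, hS'⟩ := hf U ((g a).hom.app (op U) s)
    refine ⟨S, hS, fun V v hv => ?_⟩
    obtain ⟨i, x, hx⟩ := hS' V v hv
    let w : (CanonSheaf.ε J).obj V ⟶ pullback (g a) (f i) :=
      pullback.lift (hat _ ((L a).obj.map v.op s)) (hat _ x) (by
        rw [hat_comp, hat_comp]
        exact congrArg _ ((NatTrans.naturality_apply (g a).hom v.op s).trans hx.symm))
    refine ⟨i, pt V _ w, ?_⟩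
    rw [← CanonSheaf.pt_comp, pullback.lift_fst, pt_hat]
  choose t ht using fun a => hL a I _ _ (hP a)
  refine ⟨Finset.univ.biUnion t, fun U s => ?_⟩
  obtain ⟨S, hS, hS'⟩ := hg U s
  let Q : Sieve U :=
    { arrows := fun V v => ∃ (i : (Finset.univ.biUnion t : Finset I)) (x : (M i.1).obj.obj (op V)),
        (f i.1).hom.app (op V) x = K.obj.map v.op s
      downward_closed := by
        rintro V V' v ⟨i, x, hx⟩ v'
        refine ⟨i, (M i.1).obj.map v'.op x, ?_⟩
        rw [NatTrans.naturality_apply, hx, op_comp, Functor.map_comp_apply] }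
  refine ⟨Q, J.transitive hS _ fun V v hv => ?_, fun V v hv => hv⟩
  obtain ⟨a, x, hx⟩ := hS' V v hv
  obtain ⟨T, hT, hT'⟩ := ht a V x
  refine J.superset_covering (fun V' v' hv' => ?_) hT
  obtain ⟨i, w, hw⟩ := hT' V' v' hv'
  refine ⟨⟨i.1, Finset.mem_biUnion.2 ⟨a, Finset.mem_univ _, i.2⟩⟩,
    (pullback.snd (g a) (f i.1)).hom.app (op V') w, ?_⟩
  have e := congrArg (fun φ => φ.hom.app (op V') w) (pullback.condition (f := g a) (g := f i.1))
  refine e.symm.trans ?_
  change (g a).hom.app (op V') ((pullback.fst (g a) (f i.1)).hom.app (op V') w) = _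
  rw [hw, NatTrans.naturality_apply, hx, op_comp, Functor.map_comp_apply]

/-- A quotient of a quasi-compact sheaf is quasi-compact. -/
theorem isQcObject_of_epi {K L : Sheaf J (Type u)} (g : L ⟶ K) [Epi g] (hL : CohCx.IsQcObject L) :
    CohCx.IsQcObject K := by
  haveI := (Sheaf.isLocallySurjective_iff_epi g).2 inferInstance
  haveI : Presheaf.IsLocallySurjective J g.hom := inferInstanceAs (Sheaf.IsLocallySurjective g)
  exact isQcObject_of_family (A := Unit) (fun _ => g)
    (fun U s => ⟨_, Presheaf.imageSieve_mem J g.hom s, fun V v hv => ⟨(), hv.choose, hv.choose_spec⟩⟩)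
    fun _ => hL

/-- A covering of the terminal sheaf with quasi-compact square is quasi-compact. -/
theorem isQcObject_of_square {K : Sheaf J (Type u)} (hK : Epi (terminal.from K))
    (h : CohCx.IsQcObject (K ⨯ K)) : CohCx.IsQcObject K := by
  haveI : Epi (prod.fst : K ⨯ K ⟶ K) := by
    haveI := (Sheaf.isLocallySurjective_iff_epi (terminal.from K)).2 hK
    rw [← Sheaf.isLocallySurjective_iff_epi]
    refine ⟨fun {U} s => ?_⟩
    obtain ⟨S, hS, hS'⟩ := Global.exists_sieve_of_epi hK U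
    refine J.superset_covering (fun V v hv => ?_) hS
    obtain ⟨q⟩ := hS' v hv
    refine ⟨pt V _ (prod.lift (hat K (K.obj.map v.op s)) (hat K q)), ?_⟩
    rw [← CanonSheaf.pt_comp, prod.lift_fst, pt_hat]
  exact isQcObject_of_epi (prod.fst : K ⨯ K ⟶ K) h

end Site

section Space

variable {X : TopCat.{u}}

local notation "JX" => Opens.grothendieckTopology X

/-- A compact open is a quasi-compact object. -/
theorem isQcObject_of_isCompact (U : Opens X) (hU : IsCompact (U : Set X)) :
    CohCx.IsQcObject ((presheafToSheaf JX (Type u)).obj (yoneda.obj U)) := by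
  classical
  intro I L f hf
  let η := toSheafify JX (yoneda.obj U)
  obtain ⟨S, hS, hS'⟩ := hf U (η.app (op U) (𝟙 U))
  choose V v hv hxV using fun x : U => hS x.1 x.2
  obtain ⟨t, ht⟩ := hU.elim_finite_subcover (fun x : U => (V x : Set X)) (fun x => (V x).2)
    (fun x hx => Set.mem_iUnion.2 ⟨⟨x, hx⟩, hxV ⟨x, hx⟩⟩)
  choose i x hx using fun p => hS' (V p) (v p) (hv p)
  refine ⟨t.image i, fun W s => ?_⟩
  let Q : Sieve W :=
    { arrows := fun W' g => ∃ (j : (t.image i : Finset I)) (y : (L j.1).obj.obj (op W')),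
        (f j.1).hom.app (op W') y =
          ((presheafToSheaf JX (Type u)).obj (yoneda.obj U)).obj.map g.op s
      downward_closed := by
        rintro W' W'' g ⟨j, y, hy⟩ g'
        refine ⟨j, (L j.1).obj.map g'.op y, ?_⟩
        rw [NatTrans.naturality_apply, hy, op_comp, Functor.map_comp_apply] }
  refine ⟨Q, (JX).transitive (Presheaf.imageSieve_mem JX η s) _ fun W' g hg => ?_,
    fun W' g hg => hg⟩
  obtain ⟨h, hh⟩ := hg
  intro p hp
  obtain ⟨q, hq, hpq⟩ := Set.mem_iUnion₂.1 (ht (leOfHom h hp))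
  refine ⟨W' ⊓ V q, homOfLE inf_le_left, ?_, hp, hpq⟩
  refine ⟨⟨i q, Finset.mem_image_of_mem i hq⟩,
    (L (i q)).obj.map (homOfLE (inf_le_right : W' ⊓ V q ≤ V q)).op (x q), ?_⟩
  rw [NatTrans.naturality_apply, hx q, op_comp, Functor.map_comp_apply]
  refine Eq.trans ?_ (congrArg _ hh)
  rw [FinPresFree.Site.y_nat, FinPresFree.Site.y_nat]
  refine Eq.trans ?_ (FinPresFree.Site.y_nat _ _).symm
  exact congrArg _ (Subsingleton.elim _ _)

/-- The presheaf of indices of a family of opens. -/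
def idxPsh {A : Type u} (U : A → Opens X) : (Opens X)ᵒᵖ ⥤ Type u where
  obj W := { a : A // W.unop ≤ U a }
  map g := ↾fun a => ⟨a.1, (leOfHom g.unop).trans a.2⟩

/-- The quasi-compact coverings on a space. -/
theorem exists_qc_cover
    (hX : ∀ (ι : Type u) (V : ι → Opens X), iSup V = ⊤ →
      ∃ (A : Type u) (_ : Finite A) (U : A → Opens X), iSup U = ⊤ ∧ (∀ j, ∃ i, U j ≤ V i) ∧
        ∀ j j', IsCompact ((U j ⊓ U j' : Opens X) : Set X))
    (F : Sheaf JX (Type u)) (hF : Epi (terminal.from F)) :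
    ∃ K : Sheaf JX (Type u), CohCx.IsQcObject K ∧ CohCx.IsQcObject (K ⨯ K) ∧
      Epi (terminal.from K) ∧ Nonempty (K ⟶ F) := by
  obtain ⟨A, hA, U, hUtop, hUV, hUU⟩ := hX (Σ V : Opens X, F.obj.obj (op V)) (fun i => i.1) (by
    refine eq_top_iff.2 fun x _ => ?_
    obtain ⟨S, hS, hS'⟩ := Global.exists_sieve_of_epi hF (⊤ : Opens X)
    obtain ⟨V, v, hv, hxV⟩ := hS x trivial
    obtain ⟨s⟩ := hS' v hv
    exact Opens.mem_iSup.2 ⟨⟨V, s⟩, hxV⟩)
  choose i hi using hUV
  let P := idxPsh U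
  let η := toSheafify JX P
  let φ : P ⟶ F.obj :=
    { app := fun W => ↾fun a => F.obj.map (homOfLE (a.2.trans (hi a.1))).op (i a.1).2
      naturality := fun W W' g => by
        ext a
        exact (congrArg (fun m => F.obj.map m (i a.1).2) (Subsingleton.elim _ _)).trans
          (Functor.map_comp_apply F.obj _ _ _) }
  let K := (presheafToSheaf JX (Type u)).obj P
  have hKe : Epi (terminal.from K) := by
    rw [← Sheaf.isLocallySurjective_iff_epi]
    refine ⟨fun {W} e x hx => ?_⟩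
    obtain ⟨a, ha⟩ := Opens.mem_iSup.1 (hUtop ▸ trivial : x ∈ iSup U)
    refine ⟨W ⊓ U a, homOfLE inf_le_left, ?_, hx, ha⟩
    refine ⟨η.app _ ⟨a, inf_le_right⟩, ?_⟩
    haveI : Subsingleton ((⊤_ Sheaf JX (Type u)).obj.obj (op (W ⊓ U a))) :=
      ⟨fun p q => (pt (W ⊓ U a) (⊤_ Sheaf JX (Type u))).symm.injective (terminal.hom_ext _ _)⟩
    exact Subsingleton.elim _ _
  let G : ∀ c : A × A, (presheafToSheaf JX (Type u)).obj (yoneda.obj (U c.1 ⊓ U c.2)) ⟶ K ⨯ K :=
    fun c => prod.lift (hat K (η.app (op (U c.1 ⊓ U c.2)) ⟨c.1, inf_le_left⟩))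
      (hat K (η.app (op (U c.1 ⊓ U c.2)) ⟨c.2, inf_le_right⟩))
  have hG : ∀ (W : Opens X) (w : (K ⨯ K).obj.obj (op W)), ∃ S ∈ (JX) W,
      ∀ (V : Opens X) (v : V ⟶ W), S v →
      ∃ (c : A × A) (y : ((presheafToSheaf JX (Type u)).obj (yoneda.obj (U c.1 ⊓ U c.2))).obj.obj (op V)),
        (G c).hom.app (op V) y = (K ⨯ K).obj.map v.op w := by
    intro W w
    let S₁ := Presheaf.imageSieve η ((prod.fst : K ⨯ K ⟶ K).hom.app (op W) w)
    let S₂ := Presheaf.imageSieve η ((prod.snd : K ⨯ K ⟶ K).hom.app (op W) w)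
    refine ⟨S₁ ⊓ S₂, (JX).intersection_covering (Presheaf.imageSieve_mem _ _ _)
      (Presheaf.imageSieve_mem _ _ _), ?_⟩
    rintro V v ⟨⟨a, ha⟩, ⟨b, hb⟩⟩
    have hV : V ≤ U a.1 ⊓ U b.1 := le_inf a.2 b.2
    refine ⟨(a.1, b.1), (toSheafify JX (yoneda.obj (U a.1 ⊓ U b.1))).app (op V) (homOfLE hV), ?_⟩
    apply (pt V (K ⨯ K)).symm.injective
    change hat _ _ = hat _ _
    have hval : ∀ z : ((presheafToSheaf JX (Type u)).obj (yoneda.obj (U a.1 ⊓ U b.1))) ⟶ K,
        z.hom.app (op V) ((toSheafify JX (yoneda.obj (U a.1 ⊓ U b.1))).app (op V) (homOfLE hV)) =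
          K.obj.map (homOfLE hV).op (pt _ K z) := fun z => by
      refine (congrArg (fun t => z.hom.app (op V) t) ?_).trans (NatTrans.naturality_apply z.hom _ _)
      exact (congrArg _ (Category.comp_id (homOfLE hV)).symm).trans
        (FinPresFree.Site.y_nat (homOfLE hV) (𝟙 _)).symm
    apply prod.hom_ext
    · rw [hat_comp, hat_comp]
      refine congrArg _ ?_
      rw [NatTrans.naturality_apply, ← ha]
      change ((G (a.1, b.1)) ≫ prod.fst).hom.app (op V) _ = _
      rw [prod.lift_fst, hval, pt_hat, ← NatTrans.naturality_apply]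
      rfl
    · rw [hat_comp, hat_comp]
      refine congrArg _ ?_
      rw [NatTrans.naturality_apply, ← hb]
      change ((G (a.1, b.1)) ≫ prod.snd).hom.app (op V) _ = _
      rw [prod.lift_snd, hval, pt_hat, ← NatTrans.naturality_apply]
      rfl
  have hKK : CohCx.IsQcObject (K ⨯ K) :=
    isQcObject_of_family G hG fun c => isQcObject_of_isCompact _ (hUU c.1 c.2)
  exact ⟨K, isQcObject_of_square hKe hKK, hKK, hKe,
    ⟨⟨sheafifyLift JX φ F.property⟩⟩⟩

end Space

end Groth.Agent.Lib.FPHom.QcCover
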