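import Groth.Agent.Lib.FPHom.Generic
import Groth.Agent.Lib.ModTensor.ModSite
import Groth.Agent.Lib.ExtZero.Restr
import Groth.Agent.Lib.DerivedOX.Grothendieck
import Groth.Agent.Lib.RlimTrunc.ModSheaf
import Groth.Agent.Lib.FinPresFree.Site

/-!
# Internal hom out of a finitely presented module commutes with filtered colimits
-/

set_option autoImplicit false
set_option linter.unusedSectionVars false
set_option linter.style.haveILetI false

universe u

open CategoryTheory CategoryTheory.Limits Opposite

namespace Groth.Agent.Lib.FPHom.SheafHom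

open Groth.Agent.Lib.ModTensor

variable {C : Type u} [SmallCategory C] {J : GrothendieckTopology C} {O : Sheaf J CommRingCat.{u}}

local instance (F : _root_.ModSite.Mod O) : _root_.ModSite.HasSheafHom F := ModSite.hasSheafHom F

instance additive_tensor (F : _root_.ModSite.Mod O) :
    ((_root_.ModSite.tensorBi O).flip.obj F).Additive :=
  Functor.additive_of_preserves_binary_products _

instance additive_tensor' (F : _root_.ModSite.Mod O) : ((_root_.ModSite.tensorBi O).obj F).Additive :=
  Functor.additive_of_preserves_binary_products _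

instance additive_sheafHom (F : _root_.ModSite.Mod O) : (_root_.ModSite.sheafHom F).Additive :=
  (_root_.ModSite.sheafHomAdj F).right_adjoint_additive

/-- Contravariance of internal hom in the first variable. -/
noncomputable def hm {F' F : _root_.ModSite.Mod O} (f : F' ⟶ F) :
    _root_.ModSite.sheafHom F ⟶ _root_.ModSite.sheafHom F' :=
  conjugateEquiv (_root_.ModSite.sheafHomAdj F) (_root_.ModSite.sheafHomAdj F')
    ((_root_.ModSite.tensorBi O).flip.map f)

lemma hm_id (F : _root_.ModSite.Mod O) : hm (𝟙 F) = 𝟙 _ := by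
  rw [hm, CategoryTheory.Functor.map_id, conjugateEquiv_id]

lemma hm_comp {F'' F' F : _root_.ModSite.Mod O} (g : F'' ⟶ F') (f : F' ⟶ F) :
    hm (g ≫ f) = hm f ≫ hm g := by
  rw [hm, hm, hm, Functor.map_comp]
  exact (conjugateEquiv_comp _ _ _ _ _).symm

lemma hm_add {F' F : _root_.ModSite.Mod O} (f g : F' ⟶ F) : hm (f + g) = hm f + hm g := by
  refine Eq.trans (congrArg (conjugateEquiv (_root_.ModSite.sheafHomAdj F) (_root_.ModSite.sheafHomAdj F')) ?_)
    (Generic.conjugateEquiv_add (_root_.ModSite.sheafHomAdj F) (_root_.ModSite.sheafHomAdj F') _ _)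
  apply NatTrans.ext
  funext T
  exact Functor.map_add ((_root_.ModSite.tensorBi O).obj T)

/-- `hm` as an additive map. -/
noncomputable def hmHom (F' F : _root_.ModSite.Mod O) :
    (F' ⟶ F) →+ (_root_.ModSite.sheafHom F ⟶ _root_.ModSite.sheafHom F') :=
  AddMonoidHom.mk' hm hm_add

lemma symm_comp_hm {F' F T G : _root_.ModSite.Mod O} (f : F' ⟶ F)
    (y : T ⟶ (_root_.ModSite.sheafHom F).obj G) :
    ((_root_.ModSite.sheafHomAdj F').homEquiv T G).symm (y ≫ (hm f).app G) =
      ((_root_.ModSite.tensorBi O).obj T).map f ≫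
        ((_root_.ModSite.sheafHomAdj F).homEquiv T G).symm y :=
  Generic.homEquiv_symm_comp_conjugate _ _ _ y

section Coker

variable {R P F : _root_.ModSite.Mod O} (g : R ⟶ P) (π : P ⟶ F) (w : g ≫ π = 0)

lemma mono_hm [Epi π] (G : _root_.ModSite.Mod O) : Mono ((hm π).app G) := by
  refine Preadditive.mono_of_cancel_zero _ fun {T} y hy => ?_
  apply ((_root_.ModSite.sheafHomAdj F).homEquiv T G).symm.injective
  have h := congrArg ((_root_.ModSite.sheafHomAdj P).homEquiv T G).symm hy
  rw [symm_comp_hm] at h
  haveI : Epi (((_root_.ModSite.tensorBi O).obj T).map π) := inferInstance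
  rw [← cancel_epi (((_root_.ModSite.tensorBi O).obj T).map π)]
  exact h.trans (by simp [Adjunction.homEquiv_counit])

include w in
lemma hm_comp_eq_zero : hm π ≫ hm g = 0 := by
  rw [← hm_comp, w]
  exact map_zero (hmHom R F)

lemma exact_hm (hc : IsColimit (CokernelCofork.ofπ π w)) (G : _root_.ModSite.Mod O) :
    (ShortComplex.mk ((hm π).app G) ((hm g).app G)
      (by rw [← NatTrans.comp_app, hm_comp_eq_zero g π w]; rfl)).Exact := by
  haveI : Epi π := Cofork.IsColimit.epi hc
  haveI := mono_hm π G
  refine ShortComplex.exact_of_f_is_kernel _ (KernelFork.IsLimit.ofι' _ _ fun {T} k hk => ?_)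
  have hk' : ((_root_.ModSite.tensorBi O).obj T).map g ≫
      ((_root_.ModSite.sheafHomAdj P).homEquiv T G).symm k = 0 := by
    rw [← symm_comp_hm]
    exact (congrArg _ hk).trans (by simp [Adjunction.homEquiv_counit])
  let hT := CokernelCofork.mapIsColimit _ hc ((_root_.ModSite.tensorBi O).obj T)
  obtain ⟨z, hz⟩ := CokernelCofork.IsColimit.desc' hT _ hk'
  refine ⟨(_root_.ModSite.sheafHomAdj F).homEquiv T G z, ?_⟩
  apply ((_root_.ModSite.sheafHomAdj P).homEquiv T G).symm.injective
  rw [symm_comp_hm, Equiv.symm_apply_apply]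
  exact hz

end Coker

/-- Internal hom out of the structure sheaf is the identity. -/
noncomputable def sheafHomUnitIso : 𝟭 _ ≅ _root_.ModSite.sheafHom (_root_.ModSite.unit O) :=
  ((Adjunction.id (C := _root_.ModSite.Mod O)).ofNatIsoLeft ModSite.flipUnitIso.symm).rightAdjointUniq
    (_root_.ModSite.sheafHomAdj (_root_.ModSite.unit O))

variable {Λ : Type u} [SmallCategory Λ] [IsFiltered Λ]

theorem preservesColimit_free (ι : Type u) [Finite ι] (D : Λ ⥤ _root_.ModSite.Mod O) :
    PreservesColimit D (_root_.ModSite.sheafHom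
      (SheafOfModules.free (R := _root_.ModSite.ringSh O) ι)) := by
  classical
  have := Fintype.ofFinite ι
  let F : ι → _root_.ModSite.Mod O := fun _ => _root_.ModSite.unit O
  have hid : ∑ i, (Sigma.desc (fun j => if j = i then 𝟙 (_root_.ModSite.unit O) else 0) :
      (∐ F) ⟶ _root_.ModSite.unit O) ≫ Sigma.ι F i = 𝟙 (∐ F) := by
    refine Sigma.hom_ext _ _ fun j => ?_
    rw [Preadditive.comp_sum, Category.comp_id, Finset.sum_eq_single j]
    · simp [F]
    · intro i _ hij
      simp [F, Ne.symm hij]
    · simp
  haveI : PreservesColimit D (_root_.ModSite.sheafHom (_root_.ModSite.unit O)) :=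
    preservesColimit_of_natIso D sheafHomUnitIso
  refine Generic.preservesColimit_of_retractSum _ (fun _ : ι => _root_.ModSite.sheafHom (_root_.ModSite.unit O))
    (fun i => hm (Sigma.ι F i))
    (fun i => hm (Sigma.desc fun j => if j = i then 𝟙 (_root_.ModSite.unit O) else 0)) (fun X => ?_) D
  have h : ∑ i, hm (Sigma.ι F i) ≫
      hm (Sigma.desc fun j => if j = i then 𝟙 (_root_.ModSite.unit O) else 0) = 𝟙 _ := by
    refine (Finset.sum_congr rfl fun i _ => (hm_comp _ _).symm).trans ?_
    exact ((map_sum (hmHom (∐ F) (∐ F)) _ _).symm.trans (congrArg _ hid)).trans (hm_id _)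
  simpa using congrArg (fun t => NatTrans.app t X) h

theorem preservesColimit_of_presentation {F : _root_.ModSite.Mod O} (P : SheafOfModules.Presentation F)
    [P.IsFinite] (D : Λ ⥤ _root_.ModSite.Mod O) :
    PreservesColimit D (_root_.ModSite.sheafHom F) := by
  haveI : Finite P.relations.I := SheafOfModules.GeneratingSections.IsFiniteType.finite
  haveI : Finite P.generators.I := SheafOfModules.GeneratingSections.IsFiniteType.finite
  haveI := DerivedOX.Grothendieck.isGrothendieckAbelian_sheafOfModules (_root_.ModSite.ringSh O)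
  let g : SheafOfModules.free (R := _root_.ModSite.ringSh O) P.relations.I ⟶
      SheafOfModules.free P.generators.I :=
    (SheafOfModules.freeHomEquiv _).symm P.relations.s ≫ kernel.ι _
  let π : SheafOfModules.free P.generators.I ⟶ F := P.generators.π
  have w : g ≫ π = 0 := by simp [g, π]
  haveI := P.generators.epi
  haveI : ∀ X, Mono ((hm π).app X) := fun X => mono_hm π X
  haveI := preservesColimit_free P.generators.I D
  haveI := preservesColimit_free P.relations.I D
  exact Generic.preservesColimit_of_kernel (hm π) (hm g) (hm_comp_eq_zero g π w)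
    (exact_hm g π w P.isColimit) D

open Groth.Agent.Lib.FinPresFree.Site Groth.Agent.Lib.RlimTrunc

/-- A morphism which is an isomorphism on the members of a covering of the site is one. -/
theorem isIso_of_restr {κ : Type*} (X : κ → C) (hX : J.CoversTop X) {P Q : _root_.ModSite.Mod O}
    (f : P ⟶ Q) (h : ∀ k, IsIso ((_root_.ModSite.restr O (X k)).map f)) : IsIso f := by
  have hbij : ∀ (V : C) (k : κ), (V ⟶ X k) →
      Function.Bijective (fun s : (free O).obj V ⟶ P => s ≫ f) := fun V k a => by
    haveI := h k
    have hb : Function.Bijective (f.val.app (op V)) :=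
      ConcreteCategory.bijective_of_isIso
        (((SheafOfModules.toSheaf _).map ((_root_.ModSite.restr O (X k)).map f)).hom.app (op (Over.mk a)))
    have : (fun s : (free O).obj V ⟶ P => s ≫ f) =
        (secOf O V Q).symm ∘ (fun t => f.val.app (op V) t) ∘ secOf O V P := funext fun s => by
      apply (secOf O V Q).injective
      simp only [Function.comp_apply, Equiv.apply_symm_apply]
      exact secOf_comp O s f
    rw [this]
    exact (secOf O V Q).symm.bijective.comp (hb.comp (secOf O V P).bijective)
  haveI : Mono f := Preadditive.mono_of_cancel_zero _ fun {M} ψ hψ => by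
    refine (ModSheaf.isDetecting O).separating ψ fun U s => ?_
    refine (ModSheaf.isDetecting O).eq_zero_of_local _ _ (hX U) fun V g hg => ?_
    obtain ⟨k, ⟨a⟩⟩ := (Sieve.mem_ofObjects_iff ..).mp hg
    apply (hbij V k a).1
    simp [hψ]
  haveI : Epi f := Preadditive.epi_of_cancel_zero _ fun {M} ψ hψ => by
    refine (ModSheaf.isDetecting O).separating ψ fun U s => ?_
    refine (ModSheaf.isDetecting O).eq_zero_of_local _ _ (hX U) fun V g hg => ?_
    obtain ⟨k, ⟨a⟩⟩ := (Sieve.mem_ofObjects_iff ..).mp hg
    obtain ⟨x, hx⟩ := (hbij V k a).2 ((free O).map g ≫ s)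
    rw [← Category.assoc, ← hx]
    simp [hψ]
  exact isIso_of_mono_of_epi f

/-- Internal hom out of a finitely presented module commutes with filtered colimits. -/
theorem preservesColimit_sheafHom (F : _root_.ModSite.Mod O) [_root_.ModSite.HasSheafHom F]
    [SheafOfModules.IsFinitePresentation (R := _root_.ModSite.ringSh O) F]
    (D : Λ ⥤ _root_.ModSite.Mod O) : PreservesColimit D (_root_.ModSite.sheafHom F) := by
  obtain ⟨σ, hσ⟩ := SheafOfModules.IsFinitePresentation.exists_quasicoherentData
    (R := _root_.ModSite.ringSh O) F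
  haveI := hσ
  haveI := DerivedOX.Grothendieck.isGrothendieckAbelian_sheafOfModules (_root_.ModSite.ringSh O)
  let G := _root_.ModSite.sheafHom F
  haveI : IsIso (colimit.post D G) := by
    refine isIso_of_restr σ.X σ.coversTop _ fun k => ?_
    let R := _root_.ModSite.restr O (σ.X k)
    haveI := @preservesColimit_of_presentation _ _ _ _ _ _ _ _ (σ.presentation k) (hσ.isFinite_presentation k) (D ⋙ R)
    haveI : PreservesColimit D (R ⋙ _root_.ModSite.sheafHom (R.obj F)) := inferInstance
    haveI : PreservesColimit D (G ⋙ R) :=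
      preservesColimit_of_natIso D (ExtZero.Restr.restrSheafHomIso (σ.X k) F)
    let hc₁ := isColimitOfPreserves R (colimit.isColimit (D ⋙ G))
    let hc₂ := isColimitOfPreserves (G ⋙ R) (colimit.isColimit D)
    have : R.map (colimit.post D G) = hc₁.desc ((G ⋙ R).mapCocone (colimit.cocone D)) :=
      hc₁.hom_ext fun l => by
        rw [hc₁.fac]
        exact (R.map_comp _ _).symm.trans (congrArg R.map (colimit.ι_post D G l))
    rw [this]
    exact (IsColimit.nonempty_isColimit_iff_isIso_desc hc₁).1 ⟨hc₂⟩
  exact preservesColimit_of_isIso_post G D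

end Groth.Agent.Lib.FPHom.SheafHom
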