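import Mathlib.CategoryTheory.Abelian.GrothendieckAxioms.Basic
import Mathlib.CategoryTheory.Abelian.Basic
import Mathlib.CategoryTheory.Adjunction.Mates
import Mathlib.CategoryTheory.Adjunction.Additive
import Mathlib.CategoryTheory.Limits.Preserves.Shapes.Kernels

/-!
# Colimit preservation for kernels and finite sums of functors
-/

universe w v u v' u'

open CategoryTheory CategoryTheory.Limits

namespace Groth.Agent.Lib.FPHom.Generic

section Retract

variable {A : Type u} [Category.{v} A] {B : Type u'} [Category.{v'} B] [Preadditive B]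
  {Λ : Type w} [Category Λ] {κ : Type*} [Fintype κ]

/-- A functor which is a retract of a finite sum of functors preserving a colimit preserves it. -/
theorem preservesColimit_of_retractSum (R : A ⥤ B) (G : κ → (A ⥤ B)) (p : ∀ k, R ⟶ G k)
    (j : ∀ k, G k ⟶ R) (h : ∀ X, ∑ k, (p k).app X ≫ (j k).app X = 𝟙 (R.obj X)) (D : Λ ⥤ A)
    [∀ k, PreservesColimit D (G k)] : PreservesColimit D R := by
  refine ⟨fun {c} hc => ⟨?_⟩⟩
  let t : ∀ (s : Cocone (D ⋙ R)) (k : κ), Cocone (D ⋙ G k) := fun s k =>
    ⟨s.pt, Functor.whiskerLeft D (j k) ≫ s.ι⟩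
  exact
    { desc := fun s => ∑ k, (p k).app c.pt ≫ (isColimitOfPreserves (G k) hc).desc (t s k)
      fac := fun s l => by
        change R.map (c.ι.app l) ≫ _ = s.ι.app l
        rw [Preadditive.comp_sum]
        refine Eq.trans (Finset.sum_congr rfl fun k _ => ?_)
          ((Preadditive.sum_comp _ _ (s.ι.app l)).symm.trans
            ((congrArg (· ≫ s.ι.app l) (h (D.obj l))).trans (Category.id_comp _)))
        refine ((reassoc_of% ((p k).naturality (c.ι.app l))) _).trans ?_
        rw [Category.assoc]
        exact congrArg ((p k).app (D.obj l) ≫ ·) ((isColimitOfPreserves (G k) hc).fac (t s k) l)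
      uniq := fun s m hm => by
        have e : ∀ k, (j k).app c.pt ≫ m = (isColimitOfPreserves (G k) hc).desc (t s k) := fun k =>
          (isColimitOfPreserves (G k) hc).hom_ext fun l => by
            rw [(isColimitOfPreserves (G k) hc).fac (t s k) l]
            change (G k).map (c.ι.app l) ≫ (j k).app c.pt ≫ m = (j k).app (D.obj l) ≫ s.ι.app l
            refine ((reassoc_of% ((j k).naturality (c.ι.app l))) m).trans ?_
            exact congrArg ((j k).app (D.obj l) ≫ ·) (hm l)
        conv_lhs => rw [← Category.id_comp m]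
        refine (congrArg (· ≫ m) (h c.pt).symm).trans ?_
        rw [Preadditive.sum_comp]
        exact Finset.sum_congr rfl fun k _ => by rw [Category.assoc, e k] }

end Retract

section Kernel

variable {A : Type u} [Category.{v} A] {B : Type u'} [Category.{v'} B] [Abelian B]
  {Λ : Type w} [Category Λ] [HasColimitsOfShape Λ B] [HasExactColimitsOfShape Λ B]

/-- The kernel of a map of functors preserving a colimit preserves it, for exact colimits. -/
theorem preservesColimit_of_kernel {G₁ G₂ G₃ : A ⥤ B} (α : G₁ ⟶ G₂) (β : G₂ ⟶ G₃)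
    [∀ X, Mono (α.app X)] (w : α ≫ β = 0)
    (hex : ∀ X, (ShortComplex.mk (α.app X) (β.app X) (by rw [← NatTrans.comp_app, w]; rfl)).Exact)
    (D : Λ ⥤ A) [HasColimit D] [PreservesColimit D G₂] [PreservesColimit D G₃] :
    PreservesColimit D G₁ := by
  let c := colimit.cocone D
  let S : ShortComplex (Λ ⥤ B) := ShortComplex.mk (Functor.whiskerLeft D α) (Functor.whiskerLeft D β)
    (by rw [← Functor.whiskerLeft_comp, w]; rfl)
  have hS : S.Exact := by
    rw [ShortComplex.exact_iff_isZero_homology]
    refine Functor.isZero _ fun l => IsZero.of_iso ?_ (S.mapHomologyIso ((evaluation Λ B).obj l)).symm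
    exact (ShortComplex.exact_iff_isZero_homology _).1 (hex (D.obj l))
  haveI : ∀ l, Mono ((Functor.whiskerLeft D α).app l) := fun l => inferInstanceAs (Mono (α.app _))
  haveI : Mono (Functor.whiskerLeft D α) := NatTrans.mono_of_mono_app _
  haveI : Mono S.f := inferInstanceAs (Mono (Functor.whiskerLeft D α))
  haveI : Mono (colimMap S.f) := inferInstanceAs (Mono ((colim (J := Λ) (C := B)).map S.f))
  have hc : (S.map (colim (J := Λ) (C := B))).Exact := hS.map (colim (J := Λ) (C := B))
  have h₁₂ : colimit.post D G₁ ≫ α.app c.pt = colimMap S.f ≫ colimit.post D G₂ := colimit.hom_ext fun l => by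
    rw [colimit.ι_post_assoc, ι_colimMap_assoc, colimit.ι_post]
    exact α.naturality _
  have h₂₃ : colimit.post D G₂ ≫ β.app c.pt = colimMap S.g ≫ colimit.post D G₃ := colimit.hom_ext fun l => by
    rw [colimit.ι_post_assoc, ι_colimMap_assoc, colimit.ι_post]
    exact β.naturality _
  let x := α.app c.pt ≫ inv (colimit.post D G₂)
  have hx : x ≫ colimMap S.g = 0 := by
    rw [← cancel_mono (colimit.post D G₃), Category.assoc, ← h₂₃, zero_comp]
    simp only [x, Category.assoc, IsIso.inv_hom_id_assoc]
    exact (NatTrans.congr_app w c.pt)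
  haveI : Mono (S.map (colim (J := Λ) (C := B))).f := inferInstanceAs (Mono (colimMap S.f))
  let y := hc.lift x hx
  have hy : y ≫ colimMap S.f = x := hc.lift_f x hx
  haveI : IsIso (colimit.post D G₁) := by
    refine ⟨y, ?_, ?_⟩
    · rw [← cancel_mono (colimMap S.f), Category.assoc]
      refine (congrArg (colimit.post D G₁ ≫ ·) hy).trans (Eq.trans ?_ (Category.id_comp _).symm)
      simp only [x]
      rw [← Category.assoc, h₁₂, Category.assoc, IsIso.hom_inv_id, Category.comp_id]
    · rw [← cancel_mono (α.app c.pt), Category.assoc, h₁₂, ← Category.assoc]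
      refine (congrArg (· ≫ colimit.post D G₂) hy).trans (Eq.trans ?_ (Category.id_comp _).symm)
      simp only [x, Category.assoc, IsIso.inv_hom_id, Category.comp_id]
  exact preservesColimit_of_isIso_post G₁ D

end Kernel

section Conj

variable {C : Type u} [Category.{v} C] [Preadditive C] {D : Type u'} [Category.{v'} D] [Preadditive D]
  {L₁ L₂ : C ⥤ D} {R₁ R₂ : D ⥤ C} (adj₁ : L₁ ⊣ R₁) (adj₂ : L₂ ⊣ R₂)

lemma conjugateEquiv_app_eq (α : L₂ ⟶ L₁) (d : D) :
    (conjugateEquiv adj₁ adj₂ α).app d =
      adj₂.homEquiv _ _ (α.app (R₁.obj d) ≫ adj₁.counit.app d) := by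
  rw [← conjugateEquiv_counit adj₁ adj₂ α d]
  exact (adj₂.homEquiv _ _).apply_symm_apply _ |>.symm.trans
    (congrArg _ (Adjunction.homEquiv_counit adj₂ _ _ _))

lemma homEquiv_symm_comp_conjugate (α : L₂ ⟶ L₁) {T : C} {d : D} (y : T ⟶ R₁.obj d) :
    (adj₂.homEquiv T d).symm (y ≫ (conjugateEquiv adj₁ adj₂ α).app d) =
      α.app T ≫ (adj₁.homEquiv T d).symm y := by
  rw [Adjunction.homEquiv_counit, Adjunction.homEquiv_counit, Functor.map_comp, Category.assoc,
    conjugateEquiv_counit, ← Category.assoc, α.naturality, Category.assoc]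

variable [R₂.Additive]

lemma conjugateEquiv_add (α β : L₂ ⟶ L₁) :
    conjugateEquiv adj₁ adj₂ (α + β) = conjugateEquiv adj₁ adj₂ α + conjugateEquiv adj₁ adj₂ β := by
  apply NatTrans.ext
  funext d
  rw [NatTrans.app_add, conjugateEquiv_app_eq, conjugateEquiv_app_eq, conjugateEquiv_app_eq,
    NatTrans.app_add, Preadditive.add_comp, Adjunction.homEquiv_unit, Adjunction.homEquiv_unit,
    Adjunction.homEquiv_unit, Functor.map_add, Preadditive.comp_add]

/-- Conjugation as an additive map. -/
noncomputable def conjugateHom : (L₂ ⟶ L₁) →+ (R₁ ⟶ R₂) :=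
  AddMonoidHom.mk' (conjugateEquiv adj₁ adj₂) (conjugateEquiv_add adj₁ adj₂)

end Conj

end Groth.Agent.Lib.FPHom.Generic
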