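import Groth.Agent.Lib.FPHom.SheafHom
import Groth.Agent.Lib.FreeCompact.Local
import Groth.Agent.Lib.CanonSheaf.Basic
import Groth.Agent.Lib.ToposFin.Filtered
import Mathlib.CategoryTheory.Limits.Preserves.Filtered
import Mathlib.CategoryTheory.Limits.Types.Filtered

/-!
# Global sections of a filtered colimit of modules
-/

set_option autoImplicit false
set_option linter.unusedSectionVars false
set_option linter.style.haveILetI false

universe u

open CategoryTheory CategoryTheory.Limits Opposite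

namespace Groth.Agent.Lib.FPHom.Global

open Groth.CanonSheaf (pt hat pt_hat hat_comp sheaf_ext)

variable {C : Type u} [SmallCategory C] {J : GrothendieckTopology C} {O : Sheaf J CommRingCat.{u}}

section Basic

/-- The sheaf of sets underlying a module. -/
noncomputable abbrev und (M : _root_.ModSite.Mod O) : Sheaf J (Type u) :=
  (sheafCompose J (forget AddCommGrpCat.{u})).obj ((SheafOfModules.toSheaf _).obj M)

/-- The map of sheaves of sets underlying a map of modules. -/
noncomputable abbrev undMap {M N : _root_.ModSite.Mod O} (f : M ⟶ N) : und M ⟶ und N :=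
  (sheafCompose J (forget AddCommGrpCat.{u})).map ((SheafOfModules.toSheaf _).map f)

/-- Restriction of sections. -/
noncomputable abbrev res (M : _root_.ModSite.Mod O) {W W' : C} (g : W' ⟶ W) :
    _root_.ModSite.sect M W →+ _root_.ModSite.sect M W' :=
  ((_root_.ModSite.toAb M).obj.map g.op).hom

lemma res_res (M : _root_.ModSite.Mod O) {W W' W'' : C} (g : W' ⟶ W) (g' : W'' ⟶ W')
    (x : _root_.ModSite.sect M W) : res M g' (res M g x) = res M (g' ≫ g) x :=
  (ConcreteCategory.congr_hom ((_root_.ModSite.toAb M).obj.map_comp g.op g'.op) x).symm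

lemma app_res {M N : _root_.ModSite.Mod O} (f : M ⟶ N) {W W' : C} (g : W' ⟶ W)
    (x : _root_.ModSite.sect M W) :
    f.val.app (op W') (res M g x) = res N g (f.val.app (op W) x) :=
  ConcreteCategory.congr_hom (((SheafOfModules.toSheaf _).map f).hom.naturality g.op) x

lemma comp_app {M N P : _root_.ModSite.Mod O} (f : M ⟶ N) (g : N ⟶ P) (W : C)
    (x : _root_.ModSite.sect M W) :
    (f ≫ g).val.app (op W) x = g.val.app (op W) (f.val.app (op W) x) := rfl

lemma ext_local (M : _root_.ModSite.Mod O) {W : C} {S : Sieve W} (hS : S ∈ J W)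
    {a b : _root_.ModSite.sect M W} (h : ∀ W' (g : W' ⟶ W), S g → res M g a = res M g b) : a = b :=
  sheaf_ext (und M) hS h

/-- The value of a global section. -/
noncomputable abbrev valAt {M : _root_.ModSite.Mod O} (x : _root_.ModSite.unit O ⟶ M) (W : C) :
    _root_.ModSite.sect M W :=
  (M.unitHomEquiv x).val (op W)

lemma res_valAt {M : _root_.ModSite.Mod O} (x : _root_.ModSite.unit O ⟶ M) {W W' : C} (g : W' ⟶ W) :
    res M g (valAt x W) = valAt x W' :=
  (M.unitHomEquiv x).2 g.op

lemma valAt_comp {M N : _root_.ModSite.Mod O} (x : _root_.ModSite.unit O ⟶ M) (f : M ⟶ N) (W : C) :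
    valAt (x ≫ f) W = f.val.app (op W) (valAt x W) := rfl

lemma hom_ext_valAt {M : _root_.ModSite.Mod O} {x y : _root_.ModSite.unit O ⟶ M}
    (h : ∀ W, valAt x W = valAt y W) : x = y :=
  M.unitHomEquiv.injective (Subtype.ext (funext fun W => h W.unop))

/-- Gluing values to a global section. -/
lemma exists_valAt {M : _root_.ModSite.Mod O} (v : ∀ W : C, _root_.ModSite.sect M W)
    (h : ∀ {W W' : C} (g : W' ⟶ W), res M g (v W) = v W') :
    ∃ x : _root_.ModSite.unit O ⟶ M, ∀ W, valAt x W = v W := by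
  refine ⟨M.unitHomEquiv.symm (PresheafOfModules.sectionsMk (fun W => v W.unop)
    (fun {X Y} g => h g.unop)), fun W => ?_⟩
  simp only [valAt]
  rw [Equiv.apply_symm_apply]
  rfl

end Basic

section QC

/-- A local property of the sections of a quasi-compact sheaf holds on a finite covering family. -/
theorem qc_property {K : Sheaf J (Type u)} (hK : CohCx.IsQcObject K)
    (R : ∀ W : C, K.obj.obj (op W) → Prop)
    (hR : ∀ (W : C) (k : K.obj.obj (op W)), ∃ S ∈ J W, ∀ ⦃W' : C⦄ (g : W' ⟶ W), S.arrows g →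
      R W' (K.obj.map g.op k)) :
    ∃ (n : ℕ) (V : Fin n → C) (k : ∀ m, K.obj.obj (op (V m))), (∀ m, R _ (k m)) ∧
      ∀ (W : C) (s : K.obj.obj (op W)), ∃ S ∈ J W, ∀ ⦃W' : C⦄ (g : W' ⟶ W), S.arrows g →
        ∃ (m : Fin n) (h : W' ⟶ V m), K.obj.map g.op s = K.obj.map h.op (k m) := by
  let I := Σ V : C, {k : K.obj.obj (op V) // R V k}
  let f : ∀ i : I, (presheafToSheaf J (Type u)).obj (yoneda.obj i.1) ⟶ K := fun i => hat K i.2.1
  have hf : ∀ (i : I) {W : C} (h : W ⟶ i.1),
      (f i).hom.app (op W) ((toSheafify J (yoneda.obj i.1)).app (op W) h) = K.obj.map h.op i.2.1 := by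
    intro i W h
    have e1 : (toSheafify J (yoneda.obj i.1)).app (op W) h =
        ((presheafToSheaf J (Type u)).obj (yoneda.obj i.1)).obj.map h.op
          ((toSheafify J (yoneda.obj i.1)).app (op i.1) (𝟙 i.1)) := by
      rw [FinPresFree.Site.y_nat, Category.comp_id]
    rw [e1]
    refine (NatTrans.naturality_apply (f i).hom h.op _).trans (congrArg _ ?_)
    exact pt_hat K i.2.1
  have hjs : CohCx.JointlySurjective f := fun W s => by
    obtain ⟨S, hS, hS'⟩ := hR W s
    refine ⟨S, hS, fun W' g hg => ⟨⟨W', K.obj.map g.op s, hS' g hg⟩,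
      (toSheafify J (yoneda.obj W')).app (op W') (𝟙 W'), ?_⟩⟩
    refine (hf ⟨W', K.obj.map g.op s, hS' g hg⟩ (𝟙 W')).trans ?_
    exact K.obj.map_id_apply _ _
  obtain ⟨t, ht⟩ := hK I _ f hjs
  let e := (Finset.equivFin t).symm
  refine ⟨_, fun m => (e m).1.1, fun m => (e m).1.2.1, fun m => (e m).1.2.2, fun W s => ?_⟩
  obtain ⟨T, hT, hT'⟩ := ht W s
  let Q : Sieve W :=
    { arrows := fun W' g => ∃ (m : Fin t.card) (h : W' ⟶ (e m).1.1),
        K.obj.map g.op s = K.obj.map h.op (e m).1.2.1
      downward_closed := by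
        rintro W' W'' g ⟨m, h, hh⟩ g'
        exact ⟨m, g' ≫ h, by rw [op_comp, op_comp, Functor.map_comp_apply, Functor.map_comp_apply, hh]⟩ }
  refine ⟨Q, J.transitive hT _ fun W' g hg => ?_, fun W' g hg => hg⟩
  obtain ⟨i, x, hx⟩ := hT' W' g hg
  refine J.superset_covering ?_
    (Presheaf.imageSieve_mem J (toSheafify J (yoneda.obj i.1.1)) x)
  rintro W'' g' ⟨h, hh⟩
  have key : K.obj.map (g' ≫ g).op s = K.obj.map h.op i.1.2.1 := by
    refine ((hf i.1 h).symm.trans ((congrArg _ hh).trans ?_)).symm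
    rw [op_comp, Functor.map_comp_apply, ← hx]
    exact NatTrans.naturality_apply (f i.1).hom g'.op x
  have he : e (e.symm i) = i := e.apply_symm_apply i
  generalize e.symm i = m at he
  subst he
  exact ⟨m, h, key⟩

/-- A covering of the terminal sheaf gives local sections. -/
lemma exists_sieve_of_epi {K : Sheaf J (Type u)} (hK : Epi (terminal.from K)) (W : C) :
    ∃ S ∈ J W, ∀ ⦃W' : C⦄ (g : W' ⟶ W), S.arrows g → Nonempty (K.obj.obj (op W')) := by
  haveI := (Sheaf.isLocallySurjective_iff_epi (terminal.from K)).2 hK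
  let e : (⊤_ Sheaf J (Type u)).obj.obj (op W) :=
    pt W _ (terminal.from ((CanonSheaf.ε J).obj W))
  refine ⟨Presheaf.imageSieve (terminal.from K).hom e, Presheaf.imageSieve_mem J _ _,
    fun W' g hg => ⟨hg.choose⟩⟩

end QC

section Colim

variable {Λ : Type u} [SmallCategory Λ] [IsFiltered Λ] (D : Λ ⥤ _root_.ModSite.Mod O)

/-- A section killed in the colimit is locally killed at a stage. -/
theorem locally_killed {i : Λ} {U : C} (x : _root_.ModSite.sect (D.obj i) U)
    (h : (colimit.ι D i).val.app (op U) x = 0) :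
    ∃ S ∈ J U, ∀ ⦃V : C⦄ (g : V ⟶ U), S.arrows g →
      ∃ (l : Λ) (a : i ⟶ l), (D.map a).val.app (op V) (res _ g x) = 0 := by
  let toS := SheafOfModules.toSheaf.{u} (_root_.ModSite.ringSh O)
  let P := D ⋙ toS ⋙ sheafToPresheaf J AddCommGrpCat.{u}
  let Q := colimit P
  let hc := isColimitOfPreserves toS (colimit.isColimit D)
  let cq : Cocone (D ⋙ toS) :=
    { pt := (presheafToSheaf J AddCommGrpCat.{u}).obj Q
      ι :=
        { app := fun k => ⟨colimit.ι P k ≫ toSheafify J Q⟩
          naturality := fun k l f => by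
            refine Eq.trans ?_ (Category.comp_id _).symm
            apply ObjectProperty.hom_ext
            change (P.map f) ≫ colimit.ι P l ≫ toSheafify J Q = colimit.ι P k ≫ toSheafify J Q
            rw [← Category.assoc, colimit.w] } }
  have h1 : (toSheafify J Q).app (op U) ((colimit.ι P i).app (op U) x) =
      (toSheafify J Q).app (op U) 0 := by
    have hq := congrArg (fun z => z.hom.app (op U) x) (hc.fac cq i)
    refine (hq.symm.trans ?_).trans (map_zero _).symm
    exact (congrArg ((hc.desc cq).hom.app (op U)) h).trans (map_zero _)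
  refine ⟨_, Presheaf.equalizerSieve_mem J (toSheafify J Q) (X := op U) _ _ h1, fun V v hv => ?_⟩
  change Q.map v.op ((colimit.ι P i).app (op U) x) = Q.map v.op 0 at hv
  rw [map_zero, ← NatTrans.naturality_apply] at hv
  let hV := isColimitOfPreserves ((evaluation Cᵒᵖ AddCommGrpCat.{u}).obj (op V)) (colimit.isColimit P)
  obtain ⟨l, a, b, hab⟩ := Concrete.isColimit_exists_of_rep_eq
    (P ⋙ (evaluation Cᵒᵖ AddCommGrpCat.{u}).obj (op V)) hV (i := i) (j := i)
    ((P.obj i).map v.op x) 0 (hv.trans (map_zero _).symm)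
  exact ⟨l, a, hab.trans (map_zero _)⟩

/-- Killed global sections are killed at a stage, if a quasi-compact sheaf covers the terminal one. -/
theorem exists_killed {K : Sheaf J (Type u)} (hK : CohCx.IsQcObject K)
    (hKe : Epi (terminal.from K)) {i : Λ} (x : _root_.ModSite.unit O ⟶ D.obj i)
    (hx : x ≫ colimit.ι D i = 0) : ∃ (l : Λ) (a : i ⟶ l), x ≫ D.map a = 0 := by
  obtain ⟨n, V, k, hk, hcov⟩ := qc_property hK
    (fun W _ => ∃ (l : Λ) (a : i ⟶ l), (D.map a).val.app (op W) (valAt x W) = 0) fun W s => by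
      obtain ⟨S, hS, hS'⟩ := locally_killed D (valAt x W)
        (congrArg (fun t => valAt t W) hx)
      refine ⟨S, hS, fun W' g hg => ?_⟩
      obtain ⟨l, a, ha⟩ := hS' g hg
      exact ⟨l, a, by rwa [res_valAt] at ha⟩
  choose l a ha using hk
  obtain ⟨l', a', b, hb⟩ := Groth.TFin.exists_common i (fun m : ULift.{u} (Fin n) => l m.down)
    (fun m => a m.down)
  refine ⟨l', a', hom_ext_valAt fun W => ?_⟩
  change (D.map a').val.app (op W) (valAt x W) = 0
  obtain ⟨S, hS, hS'⟩ := exists_sieve_of_epi hKe W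
  refine ext_local _ hS fun W' g hg => ?_
  rw [map_zero, ← app_res, res_valAt]
  obtain ⟨s⟩ := hS' g hg
  obtain ⟨T, hT, hT'⟩ := hcov W' s
  refine ext_local _ hT fun W'' g' hg' => ?_
  obtain ⟨m, h, -⟩ := hT' g' hg'
  rw [map_zero, ← app_res, res_valAt, ← res_valAt x h, app_res]
  have : (D.map a').val.app (op (V m)) (valAt x (V m)) = 0 := by
    rw [← hb ⟨m⟩, Functor.map_comp, comp_app, ha m, map_zero]
  rw [this, map_zero]

/-- Global sections of a colimit come from a stage, if enough quasi-compact sheaves with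
quasi-compact squares cover the terminal one. -/
theorem exists_rep
    (H : ∀ F : Sheaf J (Type u), Epi (terminal.from F) → ∃ K : Sheaf J (Type u),
      CohCx.IsQcObject K ∧ CohCx.IsQcObject (K ⨯ K) ∧ Epi (terminal.from K) ∧ Nonempty (K ⟶ F))
    (z : _root_.ModSite.unit O ⟶ colimit D) :
    ∃ (l : Λ) (y : _root_.ModSite.unit O ⟶ D.obj l), y ≫ colimit.ι D l = z := by
  classical
  let σ : (∐ fun l => D.obj l) ⟶ colimit D := Sigma.desc fun l => colimit.ι D l
  haveI : Epi σ := Preadditive.epi_of_cancel_zero _ fun {Z} k hk => colimit.hom_ext fun l => by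
    simpa [σ] using congrArg (fun t => Sigma.ι (fun l => D.obj l) l ≫ t) hk
  let zbar : ⊤_ Sheaf J (Type u) ⟶ und (colimit D) :=
    ⟨{ app := fun W => ↾fun _ => valAt z W.unop
       naturality := fun W W' g => by
        ext e
        exact (res_valAt z g.unop).symm }⟩
  haveI : Sheaf.IsLocallySurjective ((SheafOfModules.toSheaf _).map σ) :=
    (Sheaf.isLocallySurjective_iff_epi' (φ := (SheafOfModules.toSheaf _).map σ)).2 inferInstance
  haveI : Sheaf.IsLocallySurjective (undMap σ) := inferInstance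
  haveI : Presheaf.IsLocallySurjective J (undMap σ).hom :=
    inferInstanceAs (Sheaf.IsLocallySurjective (undMap σ))
  let F := pullback zbar (undMap σ)
  have hF : Epi (terminal.from F) := by
    rw [← Sheaf.isLocallySurjective_iff_epi]
    refine ⟨fun {W} e => ?_⟩
    refine J.superset_covering ?_ (Presheaf.imageSieve_mem J (undMap σ).hom (zbar.hom.app (op W) e))
    rintro W' g ⟨t, ht⟩
    let e' := (⊤_ Sheaf J (Type u)).obj.map g.op e
    let w : (CanonSheaf.ε J).obj W' ⟶ F := pullback.lift (hat _ e') (hat _ t) (by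
      rw [hat_comp, hat_comp]
      exact congrArg _ ((NatTrans.naturality_apply zbar.hom g.op e).trans ht.symm))
    refine ⟨pt W' F w, ?_⟩
    rw [← CanonSheaf.pt_comp]
    exact (congrArg (pt W' _) (terminal.hom_ext _ (hat _ e'))).trans (pt_hat _ _)
  obtain ⟨K, hK, hKK, hKe, ⟨π⟩⟩ := H F hF
  let t : ∀ {W : C}, K.obj.obj (op W) → _root_.ModSite.sect (∐ fun l => D.obj l) W :=
    fun {W} k => (π ≫ pullback.snd zbar (undMap σ)).hom.app (op W) k
  have t_res : ∀ {W W' : C} (g : W' ⟶ W) (k : K.obj.obj (op W)),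
      t (K.obj.map g.op k) = res _ g (t k) := fun g k =>
    NatTrans.naturality_apply (π ≫ pullback.snd zbar (undMap σ)).hom g.op k
  have t_σ : ∀ {W : C} (k : K.obj.obj (op W)), σ.val.app (op W) (t k) = valAt z W := fun {W} k =>
    (congrArg (fun φ => φ.hom.app (op W) k)
      (show (π ≫ pullback.snd zbar (undMap σ)) ≫ undMap σ = (π ≫ pullback.fst zbar (undMap σ)) ≫ zbar by
        rw [Category.assoc, Category.assoc, pullback.condition]) :)
  -- finitely many summands
  let cutApp := fun (T : Finset Λ) (W : C) (v : _root_.ModSite.sect (∐ fun l => D.obj l) W) =>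
    (DerCat.Compact.cut (fun l => D.obj l) T).val.app (op W) v
  obtain ⟨n, V, k, hk, hcov⟩ := qc_property hK (fun W k => ∃ T, cutApp T W (t k) = t k) fun W k => by
    obtain ⟨S, hS, hS'⟩ := FreeCompact.exists_local_cut O (fun l => D.obj l)
      ((FinPresFree.Site.secOf O W _).symm (t k))
    refine ⟨S, hS, fun W' g hg => ?_⟩
    obtain ⟨T, hT⟩ := hS' g hg
    refine ⟨T, ?_⟩
    have h := congrArg (FinPresFree.Site.secOf O W' _) hT
    rw [FinPresFree.Site.secOf_comp, FinPresFree.Site.secOf_map, Equiv.apply_symm_apply] at h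
    rw [t_res]
    exact h
  choose T hT using hk
  let T₀ : Finset Λ := Finset.univ.biUnion T
  have hcut : ∀ {W : C} (s : K.obj.obj (op W)), cutApp T₀ W (t s) = t s := fun {W} s => by
    obtain ⟨S, hS, hS'⟩ := hcov W s
    refine ext_local _ hS fun W' g hg => ?_
    obtain ⟨m, h, hh⟩ := hS' g hg
    simp only [cutApp]
    rw [← app_res, ← t_res, hh, t_res, app_res]
    refine congrArg (res _ h) ?_
    have hmono := congrArg (fun f => f.val.app (op (V m)) (t (k m)))
      (DerCat.Compact.cut_comp (fun l => D.obj l) (Finset.subset_biUnion_of_mem T (Finset.mem_univ m)))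
    have hm : cutApp (T m) (V m) (t (k m)) = t (k m) := hT m
    change cutApp T₀ (V m) (cutApp (T m) (V m) (t (k m))) = cutApp (T m) (V m) (t (k m)) at hmono
    rwa [hm] at hmono
  obtain ⟨l, hl⟩ := IsFiltered.sup_objs_exists T₀
  let gT : (∐ fun l => D.obj l) ⟶ D.obj l :=
    Sigma.desc fun j => if hj : j ∈ T₀ then D.map (hl hj).some else 0
  have hgT : gT ≫ colimit.ι D l = DerCat.Compact.cut (fun l => D.obj l) T₀ ≫ σ :=
    Sigma.hom_ext _ _ fun j => by
      rw [← Category.assoc, ← Category.assoc, DerCat.Compact.ι_cut]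
      by_cases hj : j ∈ T₀ <;> simp [gT, σ, hj]
  let y : ∀ {W : C}, K.obj.obj (op W) → _root_.ModSite.sect (D.obj l) W :=
    fun {W} s => gT.val.app (op W) (t s)
  have y_res : ∀ {W W' : C} (g : W' ⟶ W) (s : K.obj.obj (op W)),
      y (K.obj.map g.op s) = res _ g (y s) := fun g s => by
    simp only [y]
    rw [t_res, app_res]
  have y_ι : ∀ {W : C} (s : K.obj.obj (op W)),
      (colimit.ι D l).val.app (op W) (y s) = valAt z W := fun {W} s => by
    have h := congrArg (fun f => f.val.app (op W) (t s)) hgT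
    refine h.trans ?_
    change σ.val.app (op W) (cutApp T₀ W (t s)) = _
    rw [hcut, t_σ]
  -- agreement on the square
  obtain ⟨n₂, V₂, w₂, hw₂, hcov₂⟩ := qc_property hKK (fun W w => ∃ (l' : Λ) (a : l ⟶ l'),
      (D.map a).val.app (op W) (y ((prod.fst : K ⨯ K ⟶ K).hom.app (op W) w)) =
        (D.map a).val.app (op W) (y ((prod.snd : K ⨯ K ⟶ K).hom.app (op W) w))) fun W w => by
    let p := (prod.fst : K ⨯ K ⟶ K).hom.app (op W) w
    let q := (prod.snd : K ⨯ K ⟶ K).hom.app (op W) w
    obtain ⟨S, hS, hS'⟩ := locally_killed D (y p - y q) (by rw [map_sub, y_ι, y_ι, sub_self])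
    refine ⟨S, hS, fun W' g hg => ?_⟩
    obtain ⟨l', a, ha⟩ := hS' g hg
    refine ⟨l', a, ?_⟩
    rw [NatTrans.naturality_apply, NatTrans.naturality_apply, y_res, y_res]
    rwa [map_sub, map_sub, sub_eq_zero] at ha
  choose l₂ a₂ ha₂ using hw₂
  obtain ⟨l', a, b, hb⟩ := Groth.TFin.exists_common l (fun m : ULift.{u} (Fin n₂) => l₂ m.down)
    (fun m => a₂ m.down)
  let y' : ∀ {W : C}, K.obj.obj (op W) → _root_.ModSite.sect (D.obj l') W :=
    fun {W} s => (D.map a).val.app (op W) (y s)
  have y'_res : ∀ {W W' : C} (g : W' ⟶ W) (s : K.obj.obj (op W)),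
      y' (K.obj.map g.op s) = res _ g (y' s) := fun g s => by
    simp only [y']
    rw [y_res, app_res]
  have y'_eq : ∀ {W : C} (p q : K.obj.obj (op W)), y' p = y' q := fun {W} p q => by
    let w := pt W (K ⨯ K) (prod.lift (hat K p) (hat K q))
    have hp : (prod.fst : K ⨯ K ⟶ K).hom.app (op W) w = p := by
      rw [← CanonSheaf.pt_comp, prod.lift_fst, pt_hat]
    have hq : (prod.snd : K ⨯ K ⟶ K).hom.app (op W) w = q := by
      rw [← CanonSheaf.pt_comp, prod.lift_snd, pt_hat]
    obtain ⟨S, hS, hS'⟩ := hcov₂ W w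
    refine ext_local _ hS fun W' g hg => ?_
    obtain ⟨m, h, hh⟩ := hS' g hg
    rw [← y'_res, ← y'_res, ← hp, ← hq, ← NatTrans.naturality_apply, ← NatTrans.naturality_apply,
      hh, NatTrans.naturality_apply, NatTrans.naturality_apply, y'_res, y'_res]
    refine congrArg (res _ h) ?_
    simp only [y']
    rw [← hb ⟨m⟩, Functor.map_comp, comp_app, comp_app, ha₂ m]
  -- gluing
  have hglue : ∀ W : C, ∃ v : _root_.ModSite.sect (D.obj l') W, ∀ ⦃W' : C⦄ (g : W' ⟶ W)
      (s : K.obj.obj (op W')), res _ g v = y' s := fun W => by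
    let S : Sieve W :=
      { arrows := fun W' _ => Nonempty (K.obj.obj (op W'))
        downward_closed := fun {W' W''} _ hs g' => hs.map (K.obj.map g'.op) }
    have hS : S ∈ J W := by
      obtain ⟨S', hS', hS''⟩ := exists_sieve_of_epi hKe W
      exact J.superset_covering (fun W' g hg => hS'' g hg) hS'
    obtain ⟨v, hv, -⟩ := (isSheaf_iff_isSheaf_of_type _ _).1 (und (D.obj l')).property S hS
      (fun W' g hg => y' (Classical.choice hg))
      (fun W₁ W₂ Z g₁ g₂ f₁ f₂ h₁ h₂ _ => by
        change res _ g₁ (y' _) = res _ g₂ (y' _)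
        rw [← y'_res, ← y'_res]
        exact y'_eq _ _)
    exact ⟨v, fun W' g s => (hv g ⟨s⟩).trans (y'_eq _ _)⟩
  choose v hv using hglue
  obtain ⟨x, hx⟩ := exists_valAt v fun {W W'} g => by
    obtain ⟨S, hS, hS'⟩ := exists_sieve_of_epi hKe W'
    refine ext_local _ hS fun W'' g' hg' => ?_
    obtain ⟨s⟩ := hS' g' hg'
    rw [res_res, hv W (g' ≫ g) s, hv W' g' s]
  refine ⟨l', x, hom_ext_valAt fun W => ?_⟩
  rw [valAt_comp, hx]
  obtain ⟨S, hS, hS'⟩ := exists_sieve_of_epi hKe W
  refine ext_local _ hS fun W' g hg => ?_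
  obtain ⟨s⟩ := hS' g hg
  rw [← app_res, hv W g s, res_valAt]
  simp only [y']
  rw [← comp_app, colimit.w, y_ι]

end Colim

/-- Global sections commute with filtered colimits. -/
theorem preservesColimit_unit
    (H : ∀ F : Sheaf J (Type u), Epi (terminal.from F) → ∃ K : Sheaf J (Type u),
      CohCx.IsQcObject K ∧ CohCx.IsQcObject (K ⨯ K) ∧ Epi (terminal.from K) ∧ Nonempty (K ⟶ F))
    {Λ : Type u} [SmallCategory Λ] [IsFiltered Λ] (D : Λ ⥤ _root_.ModSite.Mod O) :
    PreservesColimit D (coyoneda.obj (op (_root_.ModSite.unit O))) := by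
  obtain ⟨K, hK, -, hKe, -⟩ := H (⊤_ _) (by
    rw [show terminal.from (⊤_ Sheaf J (Type u)) = 𝟙 _ from terminal.hom_ext _ _]
    infer_instance)
  refine preservesColimit_of_preserves_colimit_cocone (colimit.isColimit D)
    (Types.FilteredColimit.isColimitOf _ _ ?_ ?_)
  · intro z
    obtain ⟨l, y, hy⟩ := exists_rep D H z
    exact ⟨l, y, hy.symm⟩
  · intro i j xi xj h
    obtain ⟨m, a, b, -⟩ : ∃ (m : Λ) (a : i ⟶ m) (b : j ⟶ m), True :=
      ⟨IsFiltered.max i j, IsFiltered.leftToMax i j, IsFiltered.rightToMax i j, trivial⟩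
    let xi' : _root_.ModSite.unit O ⟶ D.obj i := xi
    let xj' : _root_.ModSite.unit O ⟶ D.obj j := xj
    have h' : xi' ≫ colimit.ι D i = xj' ≫ colimit.ι D j := h
    obtain ⟨l, c, hc⟩ := exists_killed D hK hKe (xi' ≫ D.map a - xj' ≫ D.map b) (by
      rw [Preadditive.sub_comp, Category.assoc, Category.assoc, colimit.w, colimit.w, h', sub_self])
    rw [Preadditive.sub_comp, sub_eq_zero, Category.assoc, Category.assoc, ← D.map_comp,
      ← D.map_comp] at hc
    exact ⟨l, a ≫ c, b ≫ c, hc⟩

/-- `Hom` out of a finitely presented module commutes with filtered colimits. -/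
theorem preservesColimit_coyoneda
    (H : ∀ F : Sheaf J (Type u), Epi (terminal.from F) → ∃ K : Sheaf J (Type u),
      CohCx.IsQcObject K ∧ CohCx.IsQcObject (K ⨯ K) ∧ Epi (terminal.from K) ∧ Nonempty (K ⟶ F))
    (F : _root_.ModSite.Mod O) [SheafOfModules.IsFinitePresentation (R := _root_.ModSite.ringSh O) F]
    {Λ : Type u} [SmallCategory Λ] [IsFiltered Λ] (D : Λ ⥤ _root_.ModSite.Mod O) :
    PreservesColimit D (coyoneda.obj (op F)) := by
  haveI := ModTensor.ModSite.hasSheafHom F
  haveI := SheafHom.preservesColimit_sheafHom F D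
  haveI := preservesColimit_unit H (D ⋙ _root_.ModSite.sheafHom F)
  let e₀ : ((_root_.ModSite.tensorBi O).flip.obj F).obj (_root_.ModSite.unit O) ≅ F :=
    (ModTensor.ModSite.flipObjIso F).app (_root_.ModSite.unit O) ≪≫
      ModTensor.ModSite.flipUnitIso.app F
  refine preservesColimit_of_natIso D
    (F := _root_.ModSite.sheafHom F ⋙ coyoneda.obj (op (_root_.ModSite.unit O))) ?_
  exact NatIso.ofComponents (fun G => Equiv.toIso
      (((_root_.ModSite.sheafHomAdj F).homEquiv (_root_.ModSite.unit O) G).symm.trans e₀.homFromEquiv))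
    fun {G G'} f => by
      ext (x : _root_.ModSite.unit O ⟶ (_root_.ModSite.sheafHom F).obj G)
      change e₀.inv ≫ ((_root_.ModSite.sheafHomAdj F).homEquiv _ _).symm
        (x ≫ (_root_.ModSite.sheafHom F).map f) = (e₀.inv ≫ _) ≫ f
      rw [Adjunction.homEquiv_naturality_right_symm, Category.assoc]

end Groth.Agent.Lib.FPHom.Global
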